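/- Compact objects: criterion through the partial idempotents of a coproduct; closure properties. -/
import Groth.Prelude.Def_CohDer
import Mathlib.CategoryTheory.Limits.Preserves.Shapes.Products
import Mathlib.CategoryTheory.Triangulated.Subcategory
import Mathlib.CategoryTheory.Shift.Basic
import Mathlib.Logic.Small.Basic

set_option autoImplicit false

open CategoryTheory CategoryTheory.Limits CategoryTheory.Pretriangulated
open scoped ZeroObject

universe w v u

namespace Groth.Agent.CompGen.Coprod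

variable {D : Type u} [Category.{v} D] [Preadditive D]

open scoped Classical in
/-- projection of a coproduct onto a summand -/
noncomputable def proj {ι : Type w} (X : ι → D) [HasCoproduct X] (k : ι) : ∐ X ⟶ X k :=
  Sigma.desc fun j => if h : j = k then eqToHom (congrArg X h) else 0

variable {ι : Type w} (X : ι → D) [HasCoproduct X]

@[simp]
lemma ι_proj_self (k : ι) : Sigma.ι X k ≫ proj X k = 𝟙 (X k) := by
  simp [proj]

lemma ι_proj_ne {j k : ι} (h : j ≠ k) : Sigma.ι X j ≫ proj X k = 0 := by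
  simp [proj, h]

/-- sum of the summand idempotents over a finite set -/
noncomputable def eS (s : Finset ι) : ∐ X ⟶ ∐ X := ∑ k ∈ s, proj X k ≫ Sigma.ι X k

open scoped Classical in
lemma ι_eS (s : Finset ι) (k : ι) :
    Sigma.ι X k ≫ eS X s = if k ∈ s then Sigma.ι X k else 0 := by
  rw [eS, Preadditive.comp_sum]
  by_cases hk : k ∈ s
  · rw [if_pos hk, Finset.sum_eq_single_of_mem k hk]
    · rw [← Category.assoc, ι_proj_self, Category.id_comp]
    · intro b _ hb
      rw [← Category.assoc, ι_proj_ne X (Ne.symm hb), zero_comp]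
  · rw [if_neg hk]
    refine Finset.sum_eq_zero fun b hb => ?_
    rw [← Category.assoc, ι_proj_ne X (fun h : k = b => hk (h ▸ hb)), zero_comp]

lemma eS_comp_of_subset {s t : Finset ι} (h : s ⊆ t) : eS X s ≫ eS X t = eS X s := by
  classical
  refine Sigma.hom_ext _ _ fun k => ?_
  rw [← Category.assoc, ι_eS]
  by_cases hk : k ∈ s
  · rw [if_pos hk, ι_eS, if_pos (h hk)]
  · rw [if_neg hk, zero_comp]

lemma fix_of_subset {K : D} {φ : K ⟶ ∐ X} {s t : Finset ι} (hs : φ ≫ eS X s = φ) (h : s ⊆ t) :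
    φ ≫ eS X t = φ := by
  conv_lhs => rw [← hs, Category.assoc, eS_comp_of_subset X h]
  exact hs

lemma fix_eq_sum {K : D} {φ : K ⟶ ∐ X} {s : Finset ι} (hs : φ ≫ eS X s = φ) :
    φ = ∑ k ∈ s, (φ ≫ proj X k) ≫ Sigma.ι X k := by
  conv_lhs => rw [← hs, eS, Preadditive.comp_sum]
  simp only [Category.assoc]

lemma fix_sum {K : D} (s : Finset ι) (ψ : ∀ k, K ⟶ X k) :
    (∑ k ∈ s, ψ k ≫ Sigma.ι X k) ≫ eS X s = ∑ k ∈ s, ψ k ≫ Sigma.ι X k := by
  classical
  rw [Preadditive.sum_comp]
  refine Finset.sum_congr rfl fun k hk => ?_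
  rw [Category.assoc, ι_eS, if_pos hk]

section
variable {ι₀ : Type v} (Y : ι₀ → D) [HasCoproduct Y]

lemma homSumToHomCoprod_of [DecidableEq ι₀] {K : D} (k : ι₀) (f : K ⟶ Y k) :
    CohDer.homSumToHomCoprod K Y (DirectSum.of (fun i => K ⟶ Y i) k f) = f ≫ Sigma.ι Y k := by
  rw [CohDer.homSumToHomCoprod]
  have h : (inferInstance : DecidableEq ι₀) = fun a b => Classical.propDecidable (a = b) :=
    Subsingleton.elim _ _
  subst h
  classical
  rw [DirectSum.toAddMonoid_of]
  rfl

lemma homSumToHomCoprod_proj {K : D} (x : DirectSum ι₀ fun i => K ⟶ Y i) (k : ι₀) :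
    CohDer.homSumToHomCoprod K Y x ≫ proj Y k = x k := by
  classical
  induction x using DirectSum.induction_on with
  | zero => simp
  | of i f =>
    rw [homSumToHomCoprod_of, Category.assoc]
    by_cases h : i = k
    · subst h
      rw [ι_proj_self, Category.comp_id, DirectSum.of_eq_same]
    · rw [ι_proj_ne Y h, comp_zero, DirectSum.of_eq_of_ne _ _ _ (Ne.symm h)]
  | add a b ha hb => rw [map_add, Preadditive.add_comp, ha, hb, DirectSum.add_apply]

lemma homSumToHomCoprod_injective (K : D) :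
    Function.Injective (CohDer.homSumToHomCoprod K Y) := by
  intro x y h
  refine DFinsupp.ext fun k => ?_
  rw [← homSumToHomCoprod_proj, h, homSumToHomCoprod_proj]

end

variable [HasCoproducts.{v} D]

theorem isCompact_iff (K : D) : CohDer.IsCompactObject K ↔
    ∀ (ι : Type v) (X : ι → D) (φ : K ⟶ ∐ X), ∃ s : Finset ι, φ ≫ eS X s = φ := by
  classical
  constructor
  · intro h ι X φ
    obtain ⟨x, rfl⟩ := (h ι X).2 φ
    refine ⟨x.support, ?_⟩
    have hx : CohDer.homSumToHomCoprod K X x = ∑ k ∈ x.support, x k ≫ Sigma.ι X k := by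
      conv_lhs => rw [← DirectSum.sum_support_of x]
      simp only [map_sum, homSumToHomCoprod_of]
    rw [hx]
    exact fix_sum X _ fun k => x k
  · intro h ι X
    refine ⟨homSumToHomCoprod_injective X K, fun φ => ?_⟩
    obtain ⟨s, hs⟩ := h ι X φ
    refine ⟨∑ k ∈ s, DirectSum.of (fun i => K ⟶ X i) k (φ ≫ proj X k), ?_⟩
    simp only [map_sum, homSumToHomCoprod_of]
    exact (fix_eq_sum X hs).symm

/-- compactness with respect to small index types from another universe -/
theorem exists_fix {K : D} (hK : CohDer.IsCompactObject K) {ι : Type w} [Small.{v} ι] (X : ι → D)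
    [HasCoproduct X] (φ : K ⟶ ∐ X) : ∃ s : Finset ι, φ ≫ eS X s = φ := by
  classical
  let e := (equivShrink.{v} ι).symm
  obtain ⟨s, hs⟩ := (isCompact_iff K).1 hK _ (X ∘ e) (φ ≫ (Sigma.reindex e X).inv)
  refine ⟨s.image e, ?_⟩
  have h : φ = ∑ k ∈ s, ((φ ≫ (Sigma.reindex e X).inv) ≫ proj (X ∘ e) k) ≫ Sigma.ι X (e k) := by
    have h2 := congrArg (· ≫ (Sigma.reindex e X).hom) (fix_eq_sum _ hs)
    simp only [Category.assoc, Iso.inv_hom_id, Category.comp_id, Preadditive.sum_comp,
      Sigma.ι_reindex_hom] at h2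
    simpa only [Category.assoc] using h2
  conv_lhs => rw [h, Preadditive.sum_comp]
  conv_rhs => rw [h]
  refine Finset.sum_congr rfl fun k hk => ?_
  rw [Category.assoc, ι_eS, if_pos (Finset.mem_image_of_mem e hk)]

theorem isCompact_zero [HasZeroObject D] {K : D} (hK : IsZero K) : CohDer.IsCompactObject K :=
  (isCompact_iff K).2 fun _ _ _ => ⟨∅, hK.eq_of_src _ _⟩

theorem isCompact_retract {K C : D} (i : K ⟶ C) (r : C ⟶ K) (hir : i ≫ r = 𝟙 K)
    (hC : CohDer.IsCompactObject C) : CohDer.IsCompactObject K :=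
  (isCompact_iff K).2 fun ι X φ => by
    obtain ⟨s, hs⟩ := (isCompact_iff C).1 hC ι X (r ≫ φ)
    refine ⟨s, ?_⟩
    calc φ ≫ eS X s = i ≫ (r ≫ φ) ≫ eS X s := by simp [reassoc_of% hir]
      _ = φ := by rw [hs, reassoc_of% hir]

theorem isCompact_of_iso {K C : D} (e : K ≅ C) (hC : CohDer.IsCompactObject C) :
    CohDer.IsCompactObject K :=
  isCompact_retract e.hom e.inv e.hom_inv_id hC

theorem isCompact_shift [HasShift D ℤ] [∀ n : ℤ, (shiftFunctor D n).Additive] {K : D}
    (hK : CohDer.IsCompactObject K) (n : ℤ) : CohDer.IsCompactObject (K⟦n⟧) :=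
  (isCompact_iff _).2 fun ι X φ => by
    classical
    let G := shiftFunctor D (-n)
    let e : K ≅ G.obj (K⟦n⟧) := ((shiftFunctorCompIsoId D n (-n) (by omega)).app K).symm
    let c := PreservesCoproduct.iso G X
    obtain ⟨s, hs⟩ := (isCompact_iff K).1 hK ι _ (e.hom ≫ G.map φ ≫ c.hom)
    refine ⟨s, G.map_injective ?_⟩
    have hc : ∀ k, Sigma.ι (fun j => G.obj (X j)) k ≫ c.inv = G.map (Sigma.ι X k) := fun k => by
      simp [c]
    have h := fix_eq_sum _ hs
    have h2 : G.map φ = e.inv ≫ ∑ k ∈ s, ((e.hom ≫ G.map φ ≫ c.hom) ≫ proj _ k) ≫ G.map (Sigma.ι X k) := by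
      simp only [← hc, ← Category.assoc, ← Preadditive.sum_comp]
      simp only [Category.assoc]
      have h3 := congrArg (fun t => e.inv ≫ t ≫ c.inv) h
      simpa only [Category.assoc, Iso.inv_hom_id_assoc, Iso.hom_inv_id, Category.comp_id,
        Preadditive.sum_comp, Preadditive.comp_sum] using h3
    rw [Functor.map_comp]
    conv_lhs => rw [h2]
    conv_rhs => rw [h2]
    simp only [Preadditive.comp_sum, Preadditive.sum_comp, Category.assoc, ← Functor.map_comp]
    refine Finset.sum_congr rfl fun k hk => ?_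
    rw [ι_eS, if_pos hk]

variable [HasZeroObject D] [HasShift D ℤ] [∀ n : ℤ, (shiftFunctor D n).Additive] [Pretriangulated D]

theorem isCompact_obj₂ (T : Triangle D) (hT : T ∈ distTriang D)
    (h₁ : CohDer.IsCompactObject T.obj₁) (h₃ : CohDer.IsCompactObject T.obj₃) :
    CohDer.IsCompactObject T.obj₂ :=
  (isCompact_iff _).2 fun ι X φ => by
    classical
    obtain ⟨s, hs⟩ := (isCompact_iff _).1 h₁ ι X (T.mor₁ ≫ φ)
    obtain ⟨χ, hχ⟩ := Triangle.yoneda_exact₂ T hT (φ - φ ≫ eS X s) (by
      rw [Preadditive.comp_sub, sub_eq_zero, ← Category.assoc, hs])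
    obtain ⟨t, ht⟩ := (isCompact_iff _).1 h₃ ι X χ
    refine ⟨s ∪ t, ?_⟩
    have hd : φ = φ ≫ eS X s + T.mor₂ ≫ χ := by rw [← hχ, add_sub_cancel]
    conv_lhs => rw [hd]
    conv_rhs => rw [hd]
    rw [Preadditive.add_comp, Category.assoc, eS_comp_of_subset X Finset.subset_union_left,
      Category.assoc, fix_of_subset X ht Finset.subset_union_right]

theorem isTriangulated :
    ObjectProperty.IsTriangulated (fun K : D => CohDer.IsCompactObject K) where
  exists_zero := ⟨0, isZero_zero D, isCompact_zero (isZero_zero D)⟩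
  isStableUnderShiftBy n := ⟨fun _ hK => isCompact_shift hK n⟩
  ext₂' T hT h₁ h₃ := ⟨_, isCompact_obj₂ T hT h₁ h₃, ⟨Iso.refl _⟩⟩

end Groth.Agent.CompGen.Coprod
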