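/- Elementwise toolkit for cohomological functors `H : Dᵒᵖ ⥤ Ab` sending coproducts to products. -/
import Mathlib.Algebra.Homology.ShortComplex.Ab
import Mathlib.Algebra.Category.Grp.Limits
import Mathlib.CategoryTheory.Limits.Shapes.Opposites.Products
import Mathlib.CategoryTheory.Limits.Preserves.Shapes.Products
import Mathlib.CategoryTheory.Limits.Types.Limits
import Mathlib.CategoryTheory.Triangulated.HomologicalFunctor
import Mathlib.CategoryTheory.Triangulated.Opposite.Pretriangulated
import Mathlib.Logic.Small.Basic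

set_option autoImplicit false

open CategoryTheory CategoryTheory.Limits CategoryTheory.Pretriangulated Opposite
open CategoryTheory.Pretriangulated.Opposite

universe w v u

namespace Groth.Agent.CompGen.Cohom

variable {D : Type u} [Category.{v} D] (H : Dᵒᵖ ⥤ AddCommGrpCat.{v})

/-- contravariant action of a morphism on elements -/
noncomputable def pull {X Y : D} (f : X ⟶ Y) (x : H.obj (op Y)) : H.obj (op X) := H.map f.op x

variable {X Y Z : D}

lemma pull_comp (f : X ⟶ Y) (g : Y ⟶ Z) (x : H.obj (op Z)) :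
    pull H (f ≫ g) x = pull H f (pull H g x) := by
  simp [pull]

@[simp]
lemma pull_id (x : H.obj (op X)) : pull H (𝟙 X) x = x := by
  simp [pull]

lemma pull_add_elt (f : X ⟶ Y) (x y : H.obj (op Y)) :
    pull H f (x + y) = pull H f x + pull H f y := map_add _ _ _

lemma pull_sub_elt (f : X ⟶ Y) (x y : H.obj (op Y)) :
    pull H f (x - y) = pull H f x - pull H f y := map_sub _ _ _

lemma pull_neg_elt (f : X ⟶ Y) (x : H.obj (op Y)) : pull H f (-x) = -pull H f x := map_neg _ _

@[simp]
lemma pull_zero_elt (f : X ⟶ Y) : pull H f 0 = 0 := map_zero _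

lemma pull_iso_bijective (e : X ≅ Y) : Function.Bijective (pull H e.hom) :=
  Function.bijective_iff_has_inverse.2 ⟨pull H e.inv,
    fun x => by rw [← pull_comp, e.inv_hom_id, pull_id],
    fun x => by rw [← pull_comp, e.hom_inv_id, pull_id]⟩

section Additive
variable [Preadditive D] [H.Additive]

lemma pull_add (f g : X ⟶ Y) (x : H.obj (op Y)) :
    pull H (f + g) x = pull H f x + pull H g x := by
  simp [pull, Functor.map_add]

lemma pull_sub (f g : X ⟶ Y) (x : H.obj (op Y)) :
    pull H (f - g) x = pull H f x - pull H g x := by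
  simp [pull, Functor.map_sub]

lemma pull_neg (f : X ⟶ Y) (x : H.obj (op Y)) : pull H (-f) x = -pull H f x := by
  simp [pull, Functor.map_neg]

@[simp]
lemma pull_zero (x : H.obj (op Y)) : pull H (0 : X ⟶ Y) x = 0 := by
  simp [pull]

end Additive

section Exact
variable [Preadditive D] [HasZeroObject D] [HasShift D ℤ] [∀ n : ℤ, (shiftFunctor D n).Additive]
  [Pretriangulated D] [H.IsHomological] (T : Triangle D) (hT : T ∈ distTriang D)

include hT

lemma exact₂ (x : H.obj (op T.obj₂)) (hx : pull H T.mor₁ x = 0) :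
    ∃ y : H.obj (op T.obj₃), pull H T.mor₂ y = x :=
  (ShortComplex.ab_exact_iff _).1 (H.map_distinguished_op_exact T hT) x hx

lemma exact₃ (x : H.obj (op T.obj₃)) (hx : pull H T.mor₂ x = 0) :
    ∃ y : H.obj (op (T.obj₁⟦(1 : ℤ)⟧)), pull H T.mor₃ y = x :=
  exact₂ H _ (rot_of_distTriang T hT) x hx

lemma exact₁ (x : H.obj (op (T.obj₁⟦(1 : ℤ)⟧))) (hx : pull H T.mor₃ x = 0) :
    ∃ y : H.obj (op (T.obj₂⟦(1 : ℤ)⟧)), pull H (T.mor₁⟦1⟧') y = x := by
  obtain ⟨y, hy⟩ := exact₃ H _ (rot_of_distTriang T hT) x hx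
  exact ⟨-y, ((pull_neg_elt H _ y).trans (pull_neg H _ y).symm).trans hy⟩

end Exact

section Products

variable [∀ κ : Type v, PreservesLimitsOfShape (Discrete κ) H] {ι : Type w} [Small.{v} ι]
  (A : ι → D) [HasCoproduct A]

private noncomputable def limitFan :
    IsLimit (Fan.mk (C := Type v) ((H ⋙ forget AddCommGrpCat.{v}).obj (op (∐ A)))
      fun k => (H ⋙ forget AddCommGrpCat.{v}).map (Sigma.ι A k).op) :=
  haveI : PreservesLimitsOfShape (Discrete ι) H :=
    preservesLimitsOfShape_of_equiv (Discrete.equivalence (equivShrink.{v} ι).symm) H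
  haveI : PreservesLimitsOfShape (Discrete ι) (forget AddCommGrpCat.{v}) :=
    preservesLimitsOfShape_of_equiv (Discrete.equivalence (equivShrink.{v} ι).symm) _
  isLimitFanMkObjOfIsLimit (H ⋙ forget AddCommGrpCat.{v}) (fun k => op (A k)) _
    (Cofan.IsColimit.op (coproductIsCoproduct A))

lemma exists_elt (a : ∀ k, H.obj (op (A k))) :
    ∃ x : H.obj (op (∐ A)), ∀ k, pull H (Sigma.ι A k) x = a k := by
  let s : Fan fun k => (H ⋙ forget AddCommGrpCat.{v}).obj (op (A k)) :=
    Fan.mk PUnit.{v + 1} fun k => TypeCat.ofHom fun _ => a k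
  refine ⟨(limitFan H A).lift s PUnit.unit, fun k => ?_⟩
  exact congrArg (fun f => f PUnit.unit) ((limitFan H A).fac s ⟨k⟩)

lemma elt_ext (x y : H.obj (op (∐ A)))
    (h : ∀ k, pull H (Sigma.ι A k) x = pull H (Sigma.ι A k) y) : x = y := by
  have : (TypeCat.ofHom fun _ : PUnit.{v + 1} => x) = TypeCat.ofHom fun _ : PUnit.{v + 1} => y :=
    Fan.IsLimit.hom_ext (limitFan H A) _ _ fun k => by
      ext
      exact h k
  exact congrArg (fun f => f PUnit.unit) this

end Products

end Groth.Agent.CompGen.Cohom
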