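/- The tower approximating a cohomological functor by a homotopy colimit built from a family `E`. -/
import Groth.Agent.CompGen.Cohom
import Groth.Prelude.Def_DerLim
import Mathlib.CategoryTheory.Triangulated.Pretriangulated

set_option autoImplicit false

open CategoryTheory CategoryTheory.Limits CategoryTheory.Pretriangulated Opposite
open CategoryTheory.Pretriangulated.Opposite Groth.Agent.CompGen.Cohom

universe v u

namespace Groth.Agent.CompGen.Tower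

variable {D : Type u} [Category.{v} D] [Preadditive D] [HasZeroObject D] [HasShift D ℤ]
  [∀ n : ℤ, (shiftFunctor D n).Additive] [Pretriangulated D] [HasCoproducts.{v} D]
  {κ : Type v} (E : κ → D) (H : Dᵒᵖ ⥤ AddCommGrpCat.{v}) [H.IsHomological]
  [∀ α : Type v, PreservesLimitsOfShape (Discrete α) H]

/-- `h2`-type smallness of the family `E` with respect to countable coproducts -/
def Small₂ [HasColimitsOfShape (Discrete ℕ) D] : Prop :=
  ∀ (X : ℕ → D) (i : κ) (α : E i ⟶ ∐ X), ∃ (j : ℕ → κ) (β : ∀ n, E (j n) ⟶ X n)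
    (γ : E i ⟶ ∐ (fun n => E (j n))), α = γ ≫ Limits.Sigma.map β

/-- a tower for `H`: first stage and steps are built from `E`, the classes are compatible, every
class on `E` comes from stage `0`, and classes killed on `E` die at the next stage. -/
structure Data where
  K : ℕ → D
  f : ∀ n, K n ⟶ K (n + 1)
  a : ∀ n, H.obj (op (K n))
  compat : ∀ n, pull H (f n) (a (n + 1)) = a n
  surj : ∀ (i : κ) (x : H.obj (op (E i))), ∃ g : E i ⟶ K 0, pull H g (a 0) = x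
  kill : ∀ (n : ℕ) (i : κ) (g : E i ⟶ K n), pull H g (a n) = 0 → g ≫ f n = 0
  base : ∃ (R : Type v) (r : R → κ), Nonempty (K 0 ≅ ∐ fun k => E (r k))
  step : ∀ n, ∃ (R : Type v) (r : R → κ) (y : (∐ fun k => E (r k)) ⟶ K n)
    (z : K (n + 1) ⟶ (∐ fun k => E (r k))⟦(1 : ℤ)⟧), Triangle.mk y (f n) z ∈ distTriang D

lemma exists_step (S : Σ X : D, H.obj (op X)) :
    ∃ (S' : Σ X : D, H.obj (op X)) (f : S.1 ⟶ S'.1), pull H f S'.2 = S.2 ∧
      (∀ (i : κ) (g : E i ⟶ S.1), pull H g S.2 = 0 → g ≫ f = 0) ∧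
      ∃ (R : Type v) (r : R → κ) (y : (∐ fun k => E (r k)) ⟶ S.1)
        (z : S'.1 ⟶ (∐ fun k => E (r k))⟦(1 : ℤ)⟧), Triangle.mk y f z ∈ distTriang D := by
  let R := Σ i : κ, {g : E i ⟶ S.1 // pull H g S.2 = 0}
  let r : R → κ := fun p => p.1
  let y : (∐ fun k => E (r k)) ⟶ S.1 := Sigma.desc fun p => p.2.1
  obtain ⟨X', f, z, hT⟩ := distinguished_cocone_triangle y
  have h0 : pull H y S.2 = 0 := elt_ext H _ _ _ fun p => by
    rw [← pull_comp, pull_zero_elt]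
    simp only [y, Sigma.ι_desc]
    exact p.2.2
  obtain ⟨(a' : H.obj (op X')), (ha' : pull H f a' = S.2)⟩ := exact₂ H _ hT S.2 h0
  refine ⟨⟨X', a'⟩, f, ha', fun i g hg => ?_, R, r, y, z, hT⟩
  have h : g = Sigma.ι (fun k => E (r k)) (⟨i, g, hg⟩ : R) ≫ y := by simp [y, r]
  rw [h, Category.assoc, show y ≫ f = 0 from comp_distTriang_mor_zero₁₂ _ hT, comp_zero]

theorem exists_data : Nonempty (Data E H) := by
  let R₀ := Σ i : κ, H.obj (op (E i))
  let r₀ : R₀ → κ := fun p => p.1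
  obtain ⟨a₀, ha₀⟩ := exists_elt H (fun k => E (r₀ k)) fun p => p.2
  choose next fwd h1 h2 h3 using exists_step E H
  let S : ℕ → Σ X : D, H.obj (op X) := fun n => Nat.rec ⟨_, a₀⟩ (fun _ s => next s) n
  exact ⟨{
    K := fun n => (S n).1
    f := fun n => fwd (S n)
    a := fun n => (S n).2
    compat := fun n => h1 (S n)
    surj := fun i x => ⟨Sigma.ι (fun k => E (r₀ k)) (⟨i, x⟩ : R₀), ha₀ ⟨i, x⟩⟩
    kill := fun n => h2 (S n)
    base := ⟨R₀, r₀, ⟨Iso.refl _⟩⟩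
    step := fun n => h3 (S n) }⟩

variable [HasColimitsOfShape (Discrete ℕ) D] {E}

/-- the kernel of `Hom(E i, ∐ A) ⟶ Hom(E i, ∐ B)` is generated componentwise -/
lemma exists_factor_of_comp_sigmaMap_eq_zero (h2 : Small₂ E) {A B : ℕ → D} (u : ∀ n, A n ⟶ B n)
    {i : κ} (δ : E i ⟶ ∐ A) (hδ : δ ≫ Limits.Sigma.map u = 0) :
    ∃ (j : ℕ → κ) (β : ∀ n, E (j n) ⟶ A n) (γ : E i ⟶ ∐ fun n => E (j n)),
      δ = γ ≫ Limits.Sigma.map β ∧ ∀ n, β n ≫ u n = 0 := by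
  choose Z z w hT using fun n => distinguished_cocone_triangle₁ (u n)
  obtain ⟨C, p, q, hT'⟩ := distinguished_cocone_triangle (Limits.Sigma.map z)
  have hc0 : ∀ n, ∃ c : B n ⟶ C, u n ≫ c = Sigma.ι A n ≫ p := fun n => by
    obtain ⟨c, hc, -⟩ := complete_distinguished_triangle_morphism _ _ (hT n) hT'
      (Sigma.ι Z n) (Sigma.ι A n) (Sigma.ι_map z n).symm
    exact ⟨c, hc⟩
  choose c hc using hc0
  have hp : p = Limits.Sigma.map u ≫ Sigma.desc c := by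
    refine Sigma.hom_ext _ _ fun n => ?_
    rw [Sigma.ι_map_assoc, Sigma.ι_desc]
    exact (hc n).symm
  obtain ⟨δ', hδ'⟩ := Triangle.coyoneda_exact₂ _ hT' δ (by
    change δ ≫ p = 0
    rw [hp, reassoc_of% hδ, zero_comp])
  change E i ⟶ ∐ Z at δ'
  change δ = δ' ≫ Limits.Sigma.map z at hδ'
  obtain ⟨j, β, γ, hγ⟩ := h2 Z i δ'
  refine ⟨j, fun n => β n ≫ z n, γ, ?_, fun n => ?_⟩
  · rw [hδ', hγ, Category.assoc]
    congr 1
    refine Sigma.hom_ext _ _ fun n => ?_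
    simp
  · rw [Category.assoc, show z n ≫ u n = 0 from comp_distTriang_mor_zero₁₂ _ (hT n), comp_zero]

variable {H}

/-- composite map from stage `0` -/
def Data.u (T : Data E H) : ∀ n, T.K 0 ⟶ T.K n
  | 0 => 𝟙 _
  | n + 1 => Data.u T n ≫ T.f n

variable (T : Data E H)

@[simp]
lemma Data.pull_u (n : ℕ) : pull H (T.u n) (T.a n) = T.a 0 := by
  induction n with
  | zero => simp [Data.u]
  | succ n ih => rw [Data.u, pull_comp, T.compat, ih]

lemma Data.zero_of_class_zero {i : κ} (g : E i ⟶ T.K 0) (hg : pull H g (T.a 0) = 0) (n : ℕ) :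
    g ≫ T.u (n + 1) = 0 := by
  induction n with
  | zero => simpa [Data.u] using T.kill 0 i g hg
  | succ n ih =>
    rw [Data.u, ← Category.assoc, ih, zero_comp]

lemma Data.exists_lift {n : ℕ} {i : κ} (β : E i ⟶ T.K n) :
    ∃ ρ : E i ⟶ T.K 0, β ≫ T.f n = ρ ≫ T.u (n + 1) := by
  obtain ⟨ρ, hρ⟩ := T.surj i (pull H β (T.a n))
  refine ⟨ρ, ?_⟩
  have h := T.kill n i (β - ρ ≫ T.u n) (by rw [pull_sub, pull_comp H ρ, T.pull_u, hρ, sub_self])
  rwa [Preadditive.sub_comp, sub_eq_zero, Category.assoc] at h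

theorem Data.eq_zero_of_comp_one_sub_shift (h2 : Small₂ E) {i : κ} (φ : E i ⟶ ∐ T.K)
    (hφ : φ ≫ (𝟙 _ - DerLim.shiftMap T.K T.f) = 0) : φ = 0 := by
  rw [Preadditive.comp_sub, Category.comp_id, sub_eq_zero] at hφ
  obtain ⟨j, β, γ, hγ⟩ := h2 T.K i φ
  choose ρ hρ using fun n => T.exists_lift (β n)
  let Z := ∐ fun _ : ℕ => T.K 0
  let ι₀ : ℕ → (T.K 0 ⟶ Z) := fun n => Sigma.ι (fun _ : ℕ => T.K 0) n
  let s₀ : Z ⟶ Z := Sigma.desc fun n => ι₀ (n + 1)
  let r₀ : Z ⟶ Z := Sigma.desc fun n => -∑ k ∈ Finset.range n, ι₀ k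
  let U : Z ⟶ ∐ T.K := Sigma.desc fun n => T.u (n + 1) ≫ Sigma.ι T.K (n + 1)
  let ψ : E i ⟶ Z := γ ≫ Limits.Sigma.map ρ
  have hψ : φ = ψ ≫ U := by
    rw [hφ, hγ]
    simp only [ψ, Category.assoc]
    congr 1
    refine Sigma.hom_ext _ _ fun n => ?_
    simp [DerLim.shiftMap, U, reassoc_of% (hρ n)]
  have hs : U ≫ DerLim.shiftMap T.K T.f = s₀ ≫ U := by
    refine Sigma.hom_ext _ _ fun n => ?_
    simp [U, s₀, ι₀, Z, DerLim.shiftMap, Data.u]
  have hr : (𝟙 Z - s₀) ≫ r₀ = 𝟙 Z := by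
    refine Sigma.hom_ext _ _ fun n => ?_
    change ι₀ n ≫ _ = ι₀ n ≫ _
    have e1 : ∀ m, ι₀ m ≫ r₀ = -∑ k ∈ Finset.range m, ι₀ k := fun m => by simp [ι₀, r₀]
    have e2 : ι₀ n ≫ s₀ = ι₀ (n + 1) := by simp [ι₀, s₀]
    rw [Preadditive.sub_comp, Category.id_comp, Preadditive.comp_sub, ← Category.assoc (ι₀ n) s₀,
      e2, e1, e1, Category.comp_id, Finset.sum_range_succ]
    abel
  let δ : E i ⟶ Z := ψ ≫ (𝟙 Z - s₀)
  have hδU : δ ≫ U = 0 := by
    simp only [δ, Category.assoc, Preadditive.sub_comp, Category.id_comp, Preadditive.comp_sub,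
      ← hs]
    rw [← Category.assoc ψ U, ← hψ, ← hφ, sub_self]
  have hδ : δ ≫ Limits.Sigma.map (fun n => T.u (n + 1)) = 0 := by
    let Rt : ∐ T.K ⟶ ∐ fun n => T.K (n + 1) :=
      Sigma.desc fun m => match m with
        | 0 => 0
        | m + 1 => Sigma.ι (fun n => T.K (n + 1)) m
    have : U ≫ Rt = Limits.Sigma.map (fun n => T.u (n + 1)) := by
      refine Sigma.hom_ext _ _ fun n => ?_
      simp [U, Rt]
    rw [← this, reassoc_of% hδU, zero_comp]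
  obtain ⟨j', β', γ', hγ', hβ'⟩ := exists_factor_of_comp_sigmaMap_eq_zero h2 _ δ hδ
  have hβ0 : ∀ n k, β' n ≫ T.u (k + 1) = 0 := fun n k => by
    refine T.zero_of_class_zero (β' n) ?_ k
    rw [← T.pull_u (n + 1), ← pull_comp, hβ', pull_zero]
  have key : Limits.Sigma.map β' ≫ r₀ ≫ U = 0 := by
    refine Sigma.hom_ext _ _ fun n => ?_
    rw [Sigma.ι_map_assoc, comp_zero]
    change β' n ≫ ι₀ n ≫ r₀ ≫ U = 0
    have e1 : ι₀ n ≫ r₀ = -∑ k ∈ Finset.range n, ι₀ k := by simp [ι₀, r₀]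
    rw [reassoc_of% e1, Preadditive.neg_comp, Preadditive.comp_neg, Preadditive.sum_comp,
      Preadditive.comp_sum, Finset.sum_eq_zero, neg_zero]
    intro k _
    simp [ι₀, U, reassoc_of% (hβ0 n k)]
  calc φ = (ψ ≫ (𝟙 Z - s₀)) ≫ r₀ ≫ U := by
        rw [Category.assoc, reassoc_of% hr]; exact hψ
    _ = γ' ≫ Limits.Sigma.map β' ≫ r₀ ≫ U := by
        rw [show ψ ≫ (𝟙 Z - s₀) = γ' ≫ Limits.Sigma.map β' from hγ', Category.assoc]
    _ = 0 := by rw [key, comp_zero]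

/-- Hom from the family into the homotopy colimit of the tower computes `H`. -/
theorem exists_colim (hs : ∀ (i : κ) (m : ℤ), ∃ j, Nonempty ((E i)⟦m⟧ ≅ E j)) (h2 : Small₂ E) :
    ∃ (L : D) (p : ∀ n, T.K n ⟶ L) (ξ : H.obj (op L)), DerLim.IsHocolim T.K T.f L p ∧
      ∀ i, Function.Bijective fun φ : E i ⟶ L => pull H φ ξ := by
  obtain ⟨L, q, c, hT⟩ := distinguished_cocone_triangle (𝟙 (∐ T.K) - DerLim.shiftMap T.K T.f)
  let p : ∀ n, T.K n ⟶ L := fun n => Sigma.ι T.K n ≫ q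
  have hq : Sigma.desc p = q := Sigma.hom_ext _ _ fun n => by simp [p]
  have hp : ∀ n, p n = T.f n ≫ p (n + 1) := fun n => by
    have h : Sigma.ι T.K n ≫ (𝟙 (∐ T.K) - DerLim.shiftMap T.K T.f) ≫ q = 0 := by
      rw [show (𝟙 (∐ T.K) - DerLim.shiftMap T.K T.f) ≫ q = 0 from
        comp_distTriang_mor_zero₁₂ _ hT, comp_zero]
    simpa [DerLim.shiftMap, Preadditive.sub_comp, sub_eq_zero, p] using h
  obtain ⟨x, hx⟩ := exists_elt H T.K T.a
  have hx0 : pull H (𝟙 (∐ T.K) - DerLim.shiftMap T.K T.f) x = 0 := elt_ext H _ _ _ fun n => by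
    rw [← pull_comp, pull_zero_elt]
    rw [Preadditive.comp_sub, Category.comp_id, DerLim.shiftMap, Sigma.ι_desc, pull_sub, pull_comp,
      hx, hx, T.compat, sub_self]
  obtain ⟨(ξ : H.obj (op L)), (hξ : pull H q ξ = x)⟩ := exact₂ H _ hT x hx0
  have hpξ : ∀ n, pull H (p n) ξ = T.a n := fun n => by
    rw [pull_comp]
    exact (congrArg (pull H (Sigma.ι T.K n)) hξ).trans (hx n)
  refine ⟨L, p, ξ, ⟨c, by rw [hq]; exact hT⟩, fun i => ⟨?_, fun y => ?_⟩⟩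
  · suffices h : ∀ φ : E i ⟶ L, pull H φ ξ = 0 → φ = 0 by
      intro φ φ' he
      exact sub_eq_zero.1 (h _ (by rw [pull_sub]; exact sub_eq_zero.2 he))
    intro φ hφ
    have hc : φ ≫ c = 0 := by
      obtain ⟨j, ⟨e⟩⟩ := hs i (-1)
      let η : ((∐ T.K)⟦(1 : ℤ)⟧)⟦(-1 : ℤ)⟧ ≅ ∐ T.K :=
        (shiftFunctorCompIsoId D (1 : ℤ) (-1) (by omega)).app _
      let ζ : E j ⟶ ∐ T.K := e.inv ≫ (φ ≫ c)⟦(-1 : ℤ)⟧' ≫ η.hom
      have hnat : η.hom ≫ (𝟙 (∐ T.K) - DerLim.shiftMap T.K T.f) =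
          ((𝟙 (∐ T.K) - DerLim.shiftMap T.K T.f)⟦(1 : ℤ)⟧')⟦(-1 : ℤ)⟧' ≫ η.hom :=
        ((shiftFunctorCompIsoId D (1 : ℤ) (-1) (by omega)).hom.naturality _).symm
      have h0 : ζ ≫ (𝟙 (∐ T.K) - DerLim.shiftMap T.K T.f) = 0 := by
        simp only [ζ, Category.assoc, hnat]
        rw [← Functor.map_comp_assoc, Category.assoc,
          show c ≫ (𝟙 (∐ T.K) - DerLim.shiftMap T.K T.f)⟦(1 : ℤ)⟧' = 0 from
            comp_distTriang_mor_zero₃₁ _ hT, comp_zero, Functor.map_zero, zero_comp, comp_zero]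
      have h1 := T.eq_zero_of_comp_one_sub_shift h2 ζ h0
      refine (shiftFunctor D (-1 : ℤ)).map_injective ?_
      rw [Functor.map_zero, ← cancel_epi e.inv, ← cancel_mono η.hom, comp_zero, zero_comp,
        Category.assoc]
      exact h1
    obtain ⟨ψ, hψ⟩ := Triangle.coyoneda_exact₃ _ hT φ hc
    change E i ⟶ ∐ T.K at ψ
    change φ = ψ ≫ q at hψ
    obtain ⟨j, β, γ, hγ⟩ := h2 T.K i ψ
    choose ρ hρ using fun n => T.exists_lift (β n)
    have hu : ∀ n, T.u n ≫ p n = p 0 := fun n => by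
      induction n with
      | zero => simp [Data.u]
      | succ n ih => rw [Data.u, Category.assoc, ← hp, ih]
    let g : E i ⟶ T.K 0 := γ ≫ Sigma.desc ρ
    have hg : φ = g ≫ p 0 := by
      rw [hψ, hγ]
      simp only [g, Category.assoc]
      congr 1
      refine Sigma.hom_ext _ _ fun n => ?_
      rw [Sigma.ι_map_assoc, Sigma.ι_desc_assoc]
      change β n ≫ p n = _
      rw [hp n, reassoc_of% (hρ n), hu]
    have hg0 : g ≫ T.f 0 = 0 := T.kill 0 i g (by rw [← hpξ 0, ← pull_comp, ← hg, hφ])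
    rw [hg, hp 0, reassoc_of% hg0, zero_comp]
  · obtain ⟨g, hg⟩ := T.surj i y
    exact ⟨g ≫ p 0, by simp only [pull_comp H g, hpξ]; exact hg⟩

end Groth.Agent.CompGen.Tower
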