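/- Brown representability for families which are generating and `Small₂`; closure of a family under
shifts; compact generating families qualify. -/
import Groth.Agent.CompGen.Tower
import Groth.Agent.CompGen.Coprod
import Mathlib.CategoryTheory.Triangulated.Yoneda
import Mathlib.CategoryTheory.Limits.Preserves.Shapes.Products
import Mathlib.CategoryTheory.Preadditive.Yoneda.Limits

set_option autoImplicit false

open CategoryTheory CategoryTheory.Limits CategoryTheory.Pretriangulated Opposite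
open CategoryTheory.Pretriangulated.Opposite Groth.Agent.CompGen.Cohom
open scoped ZeroObject

universe w v u

namespace Groth.Agent.CompGen.Brown

variable {D : Type u} [Category.{v} D] [Preadditive D] [HasZeroObject D] [HasShift D ℤ]
  [∀ n : ℤ, (shiftFunctor D n).Additive] [Pretriangulated D] [HasCoproducts.{v} D]

/-- `h1`-type generation of the family -/
def Detects {κ : Type v} (E : κ → D) : Prop :=
  ∀ C : D, (∀ (i : κ) (f : E i ⟶ C), f = 0) → IsZero C

/-- closure of a family under shifts -/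
def shifted {ι : Type v} (E : ι → D) : ι × ULift.{v} ℤ → D := fun p => (E p.1)⟦p.2.down⟧

lemma shifted_closed {ι : Type v} (E : ι → D) (k : ι × ULift.{v} ℤ) (m : ℤ) :
    ∃ j, Nonempty ((shifted E k)⟦m⟧ ≅ shifted E j) :=
  ⟨(k.1, ⟨k.2.down + m⟩), ⟨((shiftFunctorAdd D k.2.down m).app (E k.1)).symm⟩⟩

lemma detects_shifted_of_h1 {ι : Type v} (E : ι → D)
    (h1 : ∀ X : D, ¬ IsZero X → ∃ (i : ι) (f : E i ⟶ X), f ≠ 0) : Detects (shifted E) := fun C hC => by
  by_contra h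
  obtain ⟨i, f, hf⟩ := h1 C h
  refine hf ?_
  have h0 := hC (i, ⟨0⟩) (((shiftFunctorZero D ℤ).hom.app (E i)) ≫ f)
  exact (cancel_epi ((shiftFunctorZero D ℤ).hom.app (E i))).1 (h0.trans comp_zero.symm)

omit [HasCoproducts.{v} D] in
lemma detects_shifted_of_generates {ι : Type v} (E : ι → D) (hg : CohDer.Generates E) :
    Detects (shifted E) := fun C hC => hg C fun i n f => by
  refine (shiftFunctor D (-n)).map_injective ?_
  rw [Functor.map_zero]
  have h := hC (i, ⟨-n⟩) (f⟦-n⟧' ≫ ((shiftFunctorCompIsoId D n (-n) (by omega)).app C).hom)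
  exact (cancel_mono _).1 (h.trans zero_comp.symm)

variable [HasColimitsOfShape (Discrete ℕ) D]

lemma small₂_shifted {ι : Type v} (E : ι → D) (h2 : Tower.Small₂ E) : Tower.Small₂ (shifted E) := by
  rintro X ⟨i, ⟨m⟩⟩ α
  let G := shiftFunctor D m
  let Y : ℕ → D := fun n => (X n)⟦-m⟧
  let ε : ∀ n, G.obj (Y n) ≅ X n := fun n => (shiftFunctorCompIsoId D (-m) m (by omega)).app _
  let cmp : ∀ (A : ℕ → D), G.obj (∐ A) ≅ ∐ fun n => G.obj (A n) := fun A => PreservesCoproduct.iso G A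
  let Φ : G.obj (∐ Y) ≅ ∐ X := cmp Y ≪≫ Limits.Sigma.mapIso ε
  change G.obj (E i) ⟶ ∐ X at α
  obtain ⟨α₀, hα₀⟩ := G.map_surjective (α ≫ Φ.inv)
  obtain ⟨j, β, γ, hγ⟩ := h2 Y i α₀
  refine ⟨fun n => (j n, ⟨m⟩), fun n => G.map (β n) ≫ (ε n).hom,
    G.map γ ≫ (cmp fun n => E (j n)).hom, ?_⟩
  have hα : α = G.map α₀ ≫ Φ.hom := by rw [hα₀, Category.assoc, Iso.inv_hom_id, Category.comp_id]
  have hnat : G.map (Limits.Sigma.map β) ≫ Φ.hom =
      (cmp fun n => E (j n)).hom ≫ Limits.Sigma.map (fun n => G.map (β n) ≫ (ε n).hom) := by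
    rw [← Iso.inv_comp_eq]
    refine Sigma.hom_ext _ _ fun n => ?_
    have h : ∀ (A : ℕ → D) (n : ℕ), Sigma.ι (fun k => G.obj (A k)) n ≫ (cmp A).inv =
        G.map (Sigma.ι A n) := fun A n => by simp [cmp]
    rw [reassoc_of% (h (fun n => E (j n)) n), Sigma.ι_map, ← Functor.map_comp_assoc, Sigma.ι_map,
      Functor.map_comp_assoc, ← h Y n]
    simp [Φ]
  rw [hα, hγ, Functor.map_comp, Category.assoc, hnat, ← Category.assoc]
  rfl

lemma small₂_of_compact {κ : Type v} (E : κ → D) (hc : ∀ i, CohDer.IsCompactObject (E i)) :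
    Tower.Small₂ E := by
  intro X i α
  obtain ⟨s, hs⟩ := Coprod.exists_fix (hc i) X α
  refine ⟨fun _ => i, fun n => α ≫ Coprod.proj X n,
    ∑ k ∈ s, Sigma.ι (fun _ : ℕ => E i) k, ?_⟩
  conv_lhs => rw [Coprod.fix_eq_sum X hs]
  rw [Preadditive.sum_comp]
  exact Finset.sum_congr rfl fun k _ => by simp

section Theta

variable {H : Dᵒᵖ ⥤ AddCommGrpCat.{v}} [H.IsHomological] {L : D} (ξ : H.obj (op L))

/-- the comparison `Hom(Y, L) ⟶ H Y` is bijective -/
def Bij (Y : D) : Prop := Function.Bijective fun φ : Y ⟶ L => pull H φ ξ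

/-- bijectivity on all shifts -/
def BijShifts (Y : D) : Prop := ∀ m : ℤ, Bij ξ (Y⟦m⟧)

variable {ξ}

omit [HasCoproducts.{v} D] [HasColimitsOfShape (Discrete ℕ) D]

lemma Bij.of_iso {Y Y' : D} (e : Y ≅ Y') (h : Bij ξ Y) : Bij ξ Y' := by
  refine ⟨fun a b hab => ?_, fun y => ?_⟩
  · rw [← cancel_epi e.hom]
    refine h.1 ?_
    simp only [pull_comp]
    exact congrArg _ hab
  · obtain ⟨φ, hφ⟩ := h.2 (pull H e.hom y)
    refine ⟨e.inv ≫ φ, ?_⟩
    change pull H (e.inv ≫ φ) ξ = y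
    rw [pull_comp, show pull H φ ξ = pull H e.hom y from hφ, ← pull_comp, e.inv_hom_id, pull_id]

lemma BijShifts.of_iso {Y Y' : D} (e : Y ≅ Y') (h : BijShifts ξ Y) : BijShifts ξ Y' :=
  fun m => (h m).of_iso ((shiftFunctor D m).mapIso e)

lemma BijShifts.shift {Y : D} (h : BijShifts ξ Y) (k : ℤ) : BijShifts ξ (Y⟦k⟧) :=
  fun m => (h (k + m)).of_iso ((shiftFunctorAdd D k m).app Y)

/-- five lemma -/
lemma Bij.obj₃ (T : Triangle D) (hT : T ∈ distTriang D) (h₁ : Bij ξ T.obj₁) (h₂ : Bij ξ T.obj₂)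
    (h₁' : Bij ξ (T.obj₁⟦(1 : ℤ)⟧)) (h₂' : Bij ξ (T.obj₂⟦(1 : ℤ)⟧)) : Bij ξ T.obj₃ := by
  refine ⟨fun a b hab => sub_eq_zero.1 ?_, fun x => ?_⟩
  · have h0 : pull H (a - b) ξ = 0 := by rw [pull_sub]; exact sub_eq_zero.2 hab
    generalize a - b = φ at h0
    have e2 : T.mor₂ ≫ φ = 0 := h₂.1 (show pull H (T.mor₂ ≫ φ) ξ = pull H 0 ξ by
      rw [pull_comp, h0, pull_zero_elt, pull_zero])
    obtain ⟨ψ, hψ⟩ := Triangle.yoneda_exact₃ T hT φ e2
    obtain ⟨y, hy⟩ := exact₁ H T hT (pull H ψ ξ) (by rw [← pull_comp, ← hψ, h0])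
    obtain ⟨χ, hχ⟩ := h₂'.2 y
    have e3 : ψ = T.mor₁⟦(1 : ℤ)⟧' ≫ χ := h₁'.1 (show pull H ψ ξ = pull H (_ ≫ χ) ξ by
      rw [pull_comp, show pull H χ ξ = y from hχ, hy])
    rw [hψ, e3, ← Category.assoc, comp_distTriang_mor_zero₃₁ T hT, zero_comp]
  · obtain ⟨φB, hφB⟩ := h₂.2 (pull H T.mor₂ x)
    change pull H φB ξ = _ at hφB
    have e1 : T.mor₁ ≫ φB = 0 := h₁.1 (show pull H (T.mor₁ ≫ φB) ξ = pull H 0 ξ by
      rw [pull_comp, hφB, ← pull_comp, comp_distTriang_mor_zero₁₂ T hT, pull_zero, pull_zero])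
    obtain ⟨φC, hφC⟩ := Triangle.yoneda_exact₂ T hT φB e1
    obtain ⟨y, hy⟩ := exact₃ H T hT (x - pull H φC ξ) (by
      rw [pull_sub_elt, ← pull_comp, ← hφC, hφB, sub_self])
    obtain ⟨ψ, hψ⟩ := h₁'.2 y
    refine ⟨φC + T.mor₃ ≫ ψ, ?_⟩
    change pull H _ ξ = x
    rw [pull_add, pull_comp, show pull H ψ ξ = y from hψ, hy, add_sub_cancel]

lemma BijShifts.obj₃ (T : Triangle D) (hT : T ∈ distTriang D) (h₁ : BijShifts ξ T.obj₁)
    (h₂ : BijShifts ξ T.obj₂) : BijShifts ξ T.obj₃ := fun m =>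
  Bij.obj₃ _ (Triangle.shift_distinguished T hT m) (h₁ m) (h₂ m) (h₁.shift m 1) (h₂.shift m 1)

variable [∀ α : Type v, PreservesLimitsOfShape (Discrete α) H]

lemma Bij.sigma {ι : Type w} [Small.{v} ι] (A : ι → D) [HasCoproduct A] (h : ∀ k, Bij ξ (A k)) :
    Bij ξ (∐ A) := by
  refine ⟨fun a b hab => Sigma.hom_ext _ _ fun k => (h k).1 ?_, fun x => ?_⟩
  · simp only [pull_comp]
    exact congrArg _ hab
  · choose φ hφ using fun k => (h k).2 (pull H (Sigma.ι A k) x)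
    refine ⟨Sigma.desc φ, elt_ext H _ _ _ fun k => ?_⟩
    rw [← pull_comp, Sigma.ι_desc]
    exact hφ k

lemma BijShifts.sigma {ι : Type w} [Small.{v} ι] (A : ι → D) [HasCoproduct A]
    [∀ m : ℤ, HasCoproduct fun k => (A k)⟦m⟧] (h : ∀ k, BijShifts ξ (A k)) :
    BijShifts ξ (∐ A) := fun m =>
  (Bij.sigma _ fun k => h k m).of_iso (PreservesCoproduct.iso (shiftFunctor D m) A).symm

end Theta

variable {κ : Type v} (E : κ → D)

/-- every object is the homotopy colimit of a tower built from a detecting small family -/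
theorem exists_presentation (hd : Detects E)
    (hs : ∀ (i : κ) (m : ℤ), ∃ j, Nonempty ((E i)⟦m⟧ ≅ E j)) (h2 : Tower.Small₂ E) (Y : D)
    [∀ α : Type v, PreservesLimitsOfShape (Discrete α) (preadditiveYoneda.obj Y)] :
    ∃ (T : Tower.Data E (preadditiveYoneda.obj Y)) (p : ∀ n, T.K n ⟶ Y),
      DerLim.IsHocolim T.K T.f Y p := by
  obtain ⟨T⟩ := Tower.exists_data E (preadditiveYoneda.obj Y)
  obtain ⟨L, p, (η : L ⟶ Y), ⟨c, hT⟩, hb⟩ := Tower.exists_colim T hs h2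
  obtain ⟨C, q, d, hC⟩ := distinguished_cocone_triangle η
  have hzero : IsZero C := hd C fun i f => by
    obtain ⟨j, ⟨e⟩⟩ := hs i (-1)
    -- the boundary of `f` vanishes
    have hfd : f ≫ d = 0 := by
      refine (shiftFunctor D (-1 : ℤ)).map_injective ?_
      rw [Functor.map_zero, ← cancel_epi e.inv,
        ← cancel_mono ((shiftFunctorCompIsoId D (1 : ℤ) (-1) (by omega)).app L).hom, comp_zero,
        zero_comp]
      refine (hb j).1 (show (_ : E j ⟶ L) ≫ η = (0 : E j ⟶ L) ≫ η from ?_)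
      rw [zero_comp]
      simp only [Category.assoc, Iso.app_hom, Quiver.Hom.unop_op]
      have hnat : (shiftFunctorCompIsoId D (1 : ℤ) (-1) (by omega)).hom.app L ≫ η =
          (η⟦(1 : ℤ)⟧')⟦(-1 : ℤ)⟧' ≫ (shiftFunctorCompIsoId D (1 : ℤ) (-1) (by omega)).hom.app Y :=
        ((shiftFunctorCompIsoId D (1 : ℤ) (-1) (by omega)).hom.naturality η).symm
      rw [hnat, ← Functor.map_comp_assoc, Category.assoc,
        show d ≫ η⟦(1 : ℤ)⟧' = 0 from comp_distTriang_mor_zero₃₁ _ hC, comp_zero, Functor.map_zero,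
        zero_comp, comp_zero]
    obtain ⟨g, hg⟩ := Triangle.coyoneda_exact₃ _ hC f hfd
    change E i ⟶ Y at g
    change f = g ≫ q at hg
    obtain ⟨φ, hφ⟩ := (hb i).2 g
    change φ ≫ η = g at hφ
    rw [hg, ← hφ, Category.assoc, show η ≫ q = 0 from comp_distTriang_mor_zero₁₂ _ hC, comp_zero]
  have hiso : IsIso η := (Triangle.isZero₃_iff_isIso₁ _ hC).1 hzero
  refine ⟨T, fun n => p n ≫ η, inv η ≫ c, isomorphic_distinguished _ hT _ ?_⟩
  refine Triangle.isoMk _ _ (Iso.refl _) (Iso.refl _) (asIso η).symm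
    ((Category.comp_id _).trans (Category.id_comp _).symm) ?_
    ((congrArg _ (CategoryTheory.Functor.map_id _ _)).trans (Category.comp_id _))
  change (Sigma.desc fun n => p n ≫ η) ≫ inv η = 𝟙 (∐ T.K) ≫ Sigma.desc p
  refine Sigma.hom_ext _ _ fun n => ?_
  simp

variable (H : Dᵒᵖ ⥤ AddCommGrpCat.{v}) [H.IsHomological]
  [∀ α : Type v, PreservesLimitsOfShape (Discrete α) H]

theorem exists_representing (hd : Detects E)
    (hs : ∀ (i : κ) (m : ℤ), ∃ j, Nonempty ((E i)⟦m⟧ ≅ E j)) (h2 : Tower.Small₂ E) :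
    ∃ (L : D) (ξ : H.obj (op L)), ∀ Y : D, Function.Bijective fun φ : Y ⟶ L => pull H φ ξ := by
  obtain ⟨T₀⟩ := Tower.exists_data E H
  obtain ⟨L, p, ξ, -, hb⟩ := Tower.exists_colim T₀ hs h2
  refine ⟨L, ξ, fun Y => ?_⟩
  have hE : ∀ i, BijShifts ξ (E i) := fun i m => by
    obtain ⟨j, ⟨e⟩⟩ := hs i m
    exact Bij.of_iso e.symm (hb j)
  obtain ⟨T, q, c, hT⟩ := exists_presentation E hd hs h2 Y
  have hK : ∀ n, BijShifts ξ (T.K n) := fun n => by
    induction n with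
    | zero =>
      obtain ⟨R, r, ⟨e⟩⟩ := T.base
      exact (BijShifts.sigma _ fun k => hE (r k)).of_iso e.symm
    | succ n ih =>
      obtain ⟨R, r, y, z, hy⟩ := T.step n
      exact BijShifts.obj₃ _ hy (BijShifts.sigma _ fun k => hE (r k)) ih
  have hsum := BijShifts.sigma T.K hK
  exact Bij.of_iso ((shiftFunctorZero D ℤ).app Y) (BijShifts.obj₃ _ hT hsum hsum 0)

theorem isRepresentable (hd : Detects E)
    (hs : ∀ (i : κ) (m : ℤ), ∃ j, Nonempty ((E i)⟦m⟧ ≅ E j)) (h2 : Tower.Small₂ E) :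
    (H ⋙ forget AddCommGrpCat.{v}).IsRepresentable := by
  obtain ⟨L, ξ, hb⟩ := exists_representing E H hd hs h2
  exact Functor.RepresentableBy.isRepresentable (Y := L)
    { homEquiv := fun {X} => Equiv.ofBijective _ (hb X)
      homEquiv_comp := fun f g => pull_comp H f g ξ }

end Groth.Agent.CompGen.Brown
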