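/- An exact coproduct-preserving functor out of a category with Brown representability is a left adjoint. -/
import Groth.Agent.CompGen.Brown
import Mathlib.CategoryTheory.Triangulated.Opposite.Functor
import Mathlib.CategoryTheory.Limits.Preserves.Opposites
import Mathlib.CategoryTheory.Adjunction.Basic

set_option autoImplicit false

open CategoryTheory CategoryTheory.Limits CategoryTheory.Pretriangulated Opposite
open CategoryTheory.Pretriangulated.Opposite Groth.Agent.CompGen

universe v u u'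

namespace Groth.Agent.CompGen.Adjoint

variable {D : Type u} [Category.{v} D] [Preadditive D] [HasZeroObject D] [HasShift D ℤ]
  [∀ n : ℤ, (shiftFunctor D n).Additive] [Pretriangulated D] [HasCoproducts.{v} D]
  [HasColimitsOfShape (Discrete ℕ) D]
  {D' : Type u'} [Category.{v} D'] [Preadditive D'] [HasZeroObject D'] [HasShift D' ℤ]
  [∀ n : ℤ, (shiftFunctor D' n).Additive] [Pretriangulated D']

theorem isLeftAdjoint {κ : Type v} (E : κ → D) (hd : Brown.Detects E)
    (hs : ∀ (i : κ) (m : ℤ), ∃ j, Nonempty ((E i)⟦m⟧ ≅ E j)) (h2 : Tower.Small₂ E)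
    (F : D ⥤ D') [F.CommShift ℤ] [F.IsTriangulated]
    [∀ α : Type v, PreservesColimitsOfShape (Discrete α) F] : F.IsLeftAdjoint := by
  have : ∀ α : Type v, PreservesColimitsOfShape (Discrete α)ᵒᵖ F := fun α =>
    preservesColimitsOfShape_of_equiv (Discrete.opposite α).symm F
  have : ∀ α : Type v, PreservesLimitsOfShape (Discrete α) F.op := fun α =>
    preservesLimitsOfShape_op (Discrete α) F
  choose G ξ hξ using fun Y : D' =>
    Brown.exists_representing E (F.op ⋙ preadditiveYoneda.obj Y) hd hs h2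
  let e : ∀ (X : D) (Y : D'), (F.obj X ⟶ Y) ≃ (X ⟶ G Y) := fun X Y =>
    (Equiv.ofBijective _ (hξ Y X)).symm
  refine ⟨⟨_, ⟨Adjunction.adjunctionOfEquivRight (G_obj := G) e fun X' X Y f g => ?_⟩⟩⟩
  simp only [e]
  apply (Equiv.symm_apply_eq _).2
  obtain ⟨φ, rfl⟩ := (hξ Y X).2 g
  have hsymm : (Equiv.ofBijective _ (hξ Y X)).symm
      (Cohom.pull (F.op ⋙ preadditiveYoneda.obj Y) φ (ξ Y)) = φ :=
    Equiv.ofBijective_symm_apply_apply _ (hξ Y X) φ
  refine Eq.trans ?_
    (congrArg (fun t => (Equiv.ofBijective _ (hξ Y X')) (f ≫ t)) hsymm.symm)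
  exact ((Cohom.pull_comp (F.op ⋙ preadditiveYoneda.obj Y) f φ (ξ Y)).trans rfl).symm

end Groth.Agent.CompGen.Adjoint
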