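/- Maps from compact objects into finitely built stages factor through finite envelopes. -/
import Groth.Agent.CompGen.Coprod
import Mathlib.CategoryTheory.Triangulated.Generators
import Mathlib.CategoryTheory.Limits.Preserves.Shapes.Products

set_option autoImplicit false

open CategoryTheory CategoryTheory.Limits CategoryTheory.Pretriangulated
open Groth.Agent.CompGen.Coprod
open scoped ZeroObject

universe v u

namespace Groth.Agent.CompGen.Finite

variable {D : Type u} [Category.{v} D] [Preadditive D] [HasZeroObject D] [HasShift D ℤ]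
  [∀ n : ℤ, (shiftFunctor D n).Additive] [Pretriangulated D]

lemma prop_biprod (Q : ObjectProperty D) [Q.IsTriangulated] [Q.IsClosedUnderIsomorphisms] {X Y : D}
    (hX : Q X) (hY : Q Y) : Q (X ⊞ Y) :=
  Q.ext_of_isTriangulatedClosed₂ _ (binaryBiproductTriangle_distinguished X Y) hX hY

/-- a finite sum of maps into summands factors through an object of a triangulated subcategory -/
lemma exists_finite_factor (Q : ObjectProperty D) [Q.IsTriangulated] [Q.IsClosedUnderIsomorphisms]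
    {R : Type v} (A : R → D) [HasCoproduct A] {C : D} (ψ : ∀ k, C ⟶ A k) (s : Finset R)
    (hA : ∀ k ∈ s, Q (A k)) :
    ∃ (F : D) (a : C ⟶ F) (b : F ⟶ ∐ A), Q F ∧ a ≫ b = ∑ k ∈ s, ψ k ≫ Sigma.ι A k := by
  classical
  induction s using Finset.induction_on with
  | empty => exact ⟨0, 0, 0, Q.prop_zero, by simp⟩
  | insert k s hk ih =>
    obtain ⟨F, a, b, hF, hab⟩ := ih fun j hj => hA j (Finset.mem_insert_of_mem hj)
    exact ⟨A k ⊞ F, biprod.lift (ψ k) a, biprod.desc (Sigma.ι A k) b,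
      prop_biprod Q (hA k (Finset.mem_insert_self k s)) hF,
      by rw [biprod.lift_desc, hab, Finset.sum_insert hk]⟩

variable [IsTriangulated D] [HasCoproducts.{v} D] {ι : Type v} [Nonempty ι] (E : ι → D)

/-- envelope of finitely many members of the family, with a fixed member thrown in -/
noncomputable def env (s : Finset ι) : ObjectProperty D :=
  ObjectProperty.triangEnvelope fun Y : D => ∃ i, (i ∈ s ∨ i = Classical.arbitrary ι) ∧ Y = E i

instance (s : Finset ι) : ObjectProperty.Nonempty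
    (fun Y : D => ∃ i, (i ∈ s ∨ i = Classical.arbitrary ι) ∧ Y = E i) :=
  ⟨E (Classical.arbitrary ι), Classical.arbitrary ι, Or.inr rfl, rfl⟩

instance (s : Finset ι) : (env E s).IsTriangulated := by unfold env; infer_instance

instance (s : Finset ι) : (env E s).IsStableUnderRetracts := by unfold env; infer_instance

lemma env_le (s : Finset ι) {t : Finset ι}
    (h : ∀ i, (i ∈ s ∨ i = Classical.arbitrary ι) → i ∈ t) :
    env E s ≤ ObjectProperty.triangEnvelope fun Y : D => ∃ i ∈ t, Y = E i :=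
  ObjectProperty.monotone_triangEnvelope fun _ ⟨i, hi, e⟩ => ⟨i, h i hi, e⟩

lemma env_mono {s t : Finset ι} (h : s ⊆ t) : env E s ≤ env E t :=
  ObjectProperty.monotone_triangEnvelope fun _ ⟨i, hi, e⟩ => ⟨i, hi.imp_left (fun H => h H), e⟩

lemma shift_mem_env {s : Finset ι} {i : ι} (hi : i ∈ s) (m : ℤ) : env E s ((E i)⟦m⟧) :=
  (env E s).le_shift m _ (ObjectProperty.le_triangEnvelope _ _ ⟨i, Or.inl hi, rfl⟩)

variable (hc : ∀ i, CohDer.IsCompactObject (E i))
include hc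

lemma isCompact_of_env {s : Finset ι} {X : D} (hX : env E s X) : CohDer.IsCompactObject X := by
  let Q : ObjectProperty D := fun K => CohDer.IsCompactObject K
  haveI : Q.IsTriangulated := Coprod.isTriangulated
  haveI : Q.IsStableUnderRetracts := ⟨fun r hY => isCompact_retract r.i r.r r.retract hY⟩
  exact (ObjectProperty.triangEnvelope_le_iff (Q := Q) _).2
    (fun _ ⟨i, _, e⟩ => e ▸ hc i) _ hX

omit hc in
lemma exists_factor_sum {C : D} (hC : CohDer.IsCompactObject C) {R : Type v} (a : R → ι) (A : R → D)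
    (m : R → ℤ) (e : ∀ k, A k ≅ (E (a k))⟦m k⟧) (φ : C ⟶ ∐ A) :
    ∃ (s : Finset ι) (F : D) (g : C ⟶ F) (h : F ⟶ ∐ A), env E s F ∧ g ≫ h = φ := by
  classical
  obtain ⟨t, ht⟩ := (isCompact_iff C).1 hC R A φ
  obtain ⟨F, g, h, hF, hgh⟩ := exists_finite_factor (env E (t.image a)) A
    (fun k => φ ≫ proj A k) t fun k hk =>
      (env E (t.image a)).prop_of_iso (e k).symm (shift_mem_env E (Finset.mem_image_of_mem a hk) _)
  exact ⟨t.image a, F, g, h, hF, hgh.trans (fix_eq_sum A ht).symm⟩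

theorem exists_factor_stage (K : ℕ → D) (f : ∀ n, K n ⟶ K (n + 1))
    (h0 : ∃ (κ : Type v) (a : κ → ι) (m : κ → ℤ),
      Nonempty (K 0 ≅ ∐ (fun k => (shiftFunctor D (m k)).obj (E (a k)))))
    (hstep : ∀ n, ∃ (κ : Type v) (a : κ → ι) (m : κ → ℤ)
      (y : (∐ fun k => (shiftFunctor D (m k)).obj (E (a k))) ⟶ K n)
      (z : K (n + 1) ⟶ (shiftFunctor D (1 : ℤ)).obj
        (∐ fun k => (shiftFunctor D (m k)).obj (E (a k)))),
      Triangle.mk y (f n) z ∈ distinguishedTriangles) :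
    ∀ (n : ℕ) (C : D), CohDer.IsCompactObject C → ∀ φ : C ⟶ K n,
      ∃ (s : Finset ι) (E' : D) (g : C ⟶ E') (h : E' ⟶ K n), env E s E' ∧ g ≫ h = φ := by
  classical
  intro n
  induction n with
  | zero =>
    intro C hC φ
    obtain ⟨R, a, m, ⟨e⟩⟩ := h0
    obtain ⟨s, F, g, h, hF, hgh⟩ :=
      exists_factor_sum E hC a _ m (fun _ => Iso.refl _) (φ ≫ e.hom)
    exact ⟨s, F, g, h ≫ e.inv, hF, by rw [reassoc_of% hgh, Iso.hom_inv_id, Category.comp_id]⟩
  | succ n ih =>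
    intro C hC φ
    obtain ⟨R, a, m, y, z, hT⟩ := hstep n
    let c := PreservesCoproduct.iso (shiftFunctor D (1 : ℤ)) fun k => (E (a k))⟦m k⟧
    obtain ⟨s₁, F₁, a₀, b₁, hF₁, hab⟩ := exists_factor_sum E hC a _ (fun k => m k + 1)
      (fun k => ((shiftFunctorAdd D (m k) 1).app _).symm) (φ ≫ z ≫ c.hom)
    let F := F₁⟦(-1 : ℤ)⟧
    let ε : F⟦(1 : ℤ)⟧ ≅ F₁ := (shiftFunctorCompIsoId D (-1 : ℤ) 1 (by omega)).app F₁
    obtain ⟨b, hb⟩ := (shiftFunctor D (1 : ℤ)).map_surjective (ε.hom ≫ b₁ ≫ c.inv)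
    obtain ⟨C₂, u, q, hC₂⟩ := distinguished_cocone_triangle₂ (a₀ ≫ ε.inv)
    have hcomm : (a₀ ≫ ε.inv) ≫ b⟦(1 : ℤ)⟧' = φ ≫ z := by
      rw [hb, Category.assoc, Iso.inv_hom_id_assoc, reassoc_of% hab, Iso.hom_inv_id,
        Category.comp_id]
    obtain ⟨(ψ₂ : C₂ ⟶ K n), (hψ₂ : u ≫ ψ₂ = b ≫ y), -⟩ :=
      complete_distinguished_triangle_morphism₂ _ _ hC₂ hT b φ hcomm
    have hFc : CohDer.IsCompactObject F := isCompact_shift (isCompact_of_env E hc hF₁) _
    have hC₂c : CohDer.IsCompactObject C₂ := isCompact_obj₂ _ hC₂ hFc hC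
    obtain ⟨s₂, E₂, g₂, h₂, hE₂, hgh₂⟩ := ih C₂ hC₂c ψ₂
    obtain ⟨W, p, d, hW⟩ := distinguished_cocone_triangle (u ≫ g₂)
    obtain ⟨(k : C ⟶ W), -, hk⟩ := complete_distinguished_triangle_morphism _ _ hC₂ hW
      (𝟙 F) g₂ (Category.id_comp _).symm
    have hk' : k ≫ d = a₀ ≫ ε.inv := hk.symm.trans
      ((congrArg ((a₀ ≫ ε.inv) ≫ ·) (CategoryTheory.Functor.map_id _ _)).trans (Category.comp_id _))
    obtain ⟨(w : W ⟶ K (n + 1)), -, hw⟩ := complete_distinguished_triangle_morphism _ _ hW hT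
      b h₂ ((Category.assoc _ _ _).trans ((congrArg (u ≫ ·) hgh₂).trans hψ₂))
    have hz : (φ - k ≫ w) ≫ z = 0 := by
      rw [Preadditive.sub_comp, Category.assoc, show w ≫ z = d ≫ b⟦(1 : ℤ)⟧' from hw.symm,
        reassoc_of% hk', ← hcomm, Category.assoc, sub_self]
    obtain ⟨(χ : C ⟶ K n), (hχ : φ - k ≫ w = χ ≫ f n)⟩ :=
      Triangle.coyoneda_exact₃ _ hT (φ - k ≫ w) hz
    obtain ⟨s₃, E₃, g₃, h₃, hE₃, hgh₃⟩ := ih C hC χ
    let s := s₁ ∪ s₂ ∪ s₃
    have hW' : env E s W :=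
      (env E s).ext_of_isTriangulatedClosed₃ _ hW
        ((env E s).le_shift (-1 : ℤ) _ (env_mono E (by intro x hx; simp [s, hx]) _ hF₁))
        (env_mono E (by intro x hx; simp [s, hx]) _ hE₂)
    refine ⟨s, W ⊞ E₃, biprod.lift k g₃, biprod.desc w (h₃ ≫ f n),
      prop_biprod _ hW' (env_mono E (by intro x hx; simp [s, hx]) _ hE₃), ?_⟩
    rw [biprod.lift_desc, reassoc_of% hgh₃, ← hχ, add_sub_cancel]

end Groth.Agent.CompGen.Finite
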