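/- Maps from a compact object into a homotopy colimit. -/
import Groth.Agent.CompGen.Coprod
import Groth.Prelude.Def_DerLim

set_option autoImplicit false

open CategoryTheory CategoryTheory.Limits CategoryTheory.Pretriangulated
open Groth.Agent.CompGen.Coprod

universe v u

namespace Groth.Agent.CompGen.Hocolim

variable {D : Type u} [Category.{v} D] [Preadditive D] [HasZeroObject D] [HasShift D ℤ]
  [∀ n : ℤ, (shiftFunctor D n).Additive] [Pretriangulated D]

/-- in a hocolim, the structure maps are compatible -/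
lemma comp_eq {K : ℕ → D} {f : ∀ n, K n ⟶ K (n + 1)} [HasCoproduct K] {L : D} {i : ∀ n, K n ⟶ L}
    (hL : DerLim.IsHocolim K f L i) (n : ℕ) : f n ≫ i (n + 1) = i n := by
  obtain ⟨c, hT⟩ := hL
  have h : Sigma.ι K n ≫ (𝟙 (∐ K) - DerLim.shiftMap K f) ≫ Sigma.desc i = 0 := by
    rw [show (𝟙 (∐ K) - DerLim.shiftMap K f) ≫ Sigma.desc i = 0 from
      comp_distTriang_mor_zero₁₂ _ hT, comp_zero]
  have h' : i n - f n ≫ i (n + 1) = 0 := by
    simpa [DerLim.shiftMap, Preadditive.sub_comp] using h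
  exact (sub_eq_zero.1 h').symm

variable [HasCoproducts.{v} D]

/-- `1 - shift` is injective on maps out of a compact object. -/
lemma eq_zero_of_comp_one_sub_shift {K : ℕ → D} (f : ∀ n, K n ⟶ K (n + 1)) [HasCoproduct K] {C : D}
    (hC : CohDer.IsCompactObject C) (φ : C ⟶ ∐ K)
    (hφ : φ ≫ (𝟙 (∐ K) - DerLim.shiftMap K f) = 0) : φ = 0 := by
  rw [Preadditive.comp_sub, Category.comp_id, sub_eq_zero] at hφ
  obtain ⟨s, hs⟩ := exists_fix hC K φ
  have h0 : DerLim.shiftMap K f ≫ proj K 0 = 0 := by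
    refine Sigma.hom_ext _ _ fun k => ?_
    simp only [DerLim.shiftMap, Sigma.ι_desc_assoc, Category.assoc, comp_zero]
    rw [ι_proj_ne K (Nat.succ_ne_zero k), comp_zero]
  have h1 : ∀ n, DerLim.shiftMap K f ≫ proj K (n + 1) = proj K n ≫ f n := fun n => by
    refine Sigma.hom_ext _ _ fun k => ?_
    simp only [DerLim.shiftMap, Sigma.ι_desc_assoc, Category.assoc]
    by_cases hk : k = n
    · subst hk
      rw [ι_proj_self, Category.comp_id, reassoc_of% (ι_proj_self K k)]
    · rw [ι_proj_ne K (fun e => hk (Nat.succ_injective e)), comp_zero,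
        ← Category.assoc, ι_proj_ne K hk, zero_comp]
  have hz : ∀ n, φ ≫ proj K n = 0 := fun n => by
    induction n with
    | zero => rw [hφ, Category.assoc, h0, comp_zero]
    | succ n ih => rw [hφ, Category.assoc, h1, ← Category.assoc, ih, zero_comp]
  rw [fix_eq_sum K hs]
  exact Finset.sum_eq_zero fun k _ => by rw [hz, zero_comp]

/-- a map from a compact object to a hocolim factors through some stage -/
theorem exists_factor {K : ℕ → D} {f : ∀ n, K n ⟶ K (n + 1)} [HasCoproduct K] {L : D}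
    {i : ∀ n, K n ⟶ L} (hL : DerLim.IsHocolim K f L i) {C : D} (hC : CohDer.IsCompactObject C)
    (φ : C ⟶ L) : ∃ (n : ℕ) (g : C ⟶ K n), g ≫ i n = φ := by
  have hi := comp_eq hL
  obtain ⟨c, hT⟩ := hL
  have hc : φ ≫ c = 0 := by
    let η := shiftFunctorCompIsoId D (1 : ℤ) (-1) (by omega)
    refine (shiftFunctor D (-1 : ℤ)).map_injective ?_
    rw [Functor.map_zero, ← cancel_mono (η.hom.app (∐ K)), zero_comp]
    refine eq_zero_of_comp_one_sub_shift f (isCompact_shift hC (-1)) _ ?_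
    have hnat : η.hom.app (∐ K) ≫ (𝟙 (∐ K) - DerLim.shiftMap K f) =
        ((𝟙 (∐ K) - DerLim.shiftMap K f)⟦(1 : ℤ)⟧')⟦(-1 : ℤ)⟧' ≫ η.hom.app (∐ K) :=
      (η.hom.naturality _).symm
    rw [Category.assoc, hnat, ← Functor.map_comp_assoc, Category.assoc,
      show c ≫ (𝟙 (∐ K) - DerLim.shiftMap K f)⟦(1 : ℤ)⟧' = 0 from
        comp_distTriang_mor_zero₃₁ _ hT, comp_zero, Functor.map_zero, zero_comp]
  obtain ⟨(ψ : C ⟶ ∐ K), (hψ : φ = ψ ≫ Sigma.desc i)⟩ := Triangle.coyoneda_exact₃ _ hT φ hc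
  obtain ⟨s, hs⟩ := exists_fix hC K ψ
  have hpush : ∀ (k : ℕ) (t : C ⟶ K k) (N : ℕ), k ≤ N → ∃ g : C ⟶ K N, g ≫ i N = t ≫ i k :=
    fun k t N hN => by
      induction N, hN using Nat.le_induction with
      | base => exact ⟨t, rfl⟩
      | succ N _ ih =>
        obtain ⟨g, hg⟩ := ih
        exact ⟨g ≫ f N, by rw [Category.assoc, hi, hg]⟩
  choose g hg using fun k : s => hpush k.1 (ψ ≫ proj K k.1) (s.sup id) (Finset.le_sup (f := id) k.2)
  refine ⟨s.sup id, ∑ k ∈ s.attach, g k, ?_⟩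
  rw [hψ, Preadditive.sum_comp]
  conv_rhs => rw [fix_eq_sum K hs, Preadditive.sum_comp, ← Finset.sum_attach]
  refine Finset.sum_congr rfl fun k _ => ?_
  rw [hg k, Category.assoc, Category.assoc, Category.assoc, Sigma.ι_desc]

end Groth.Agent.CompGen.Hocolim
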