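/- generator iff classical generator of the compact objects -/
import Groth.Agent.CompGen.Brown
import Groth.Agent.CompGen.Hocolim
import Groth.Agent.CompGen.Finite

set_option autoImplicit false

open CategoryTheory CategoryTheory.Limits CategoryTheory.Pretriangulated
open Groth.Agent.CompGen
open scoped ZeroObject

universe v u

namespace Groth.Agent.CompGen.Classical

variable {D : Type u} [Category.{v} D] [Preadditive D] [HasZeroObject D] [HasShift D ℤ]
  [∀ n : ℤ, (shiftFunctor D n).Additive] [Pretriangulated D]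

/-- objects having only zero maps to all shifts of `K` -/
def orth (K : D) : ObjectProperty D := fun A => ∀ (n : ℤ) (f : A ⟶ K⟦n⟧), f = 0

instance (K : D) : (orth K).IsTriangulated where
  exists_zero := ⟨0, isZero_zero D, fun _ f => (isZero_zero D).eq_of_src f 0⟩
  isStableUnderShiftBy a := ⟨fun A hA n f => by
    refine (shiftFunctor D (-a)).map_injective ?_
    rw [Functor.map_zero]
    have h := hA (n + -a) (((shiftFunctorCompIsoId D a (-a) (by omega)).inv.app A) ≫ f⟦-a⟧' ≫
      (shiftFunctorAdd D n (-a)).inv.app K)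
    rw [← cancel_mono ((shiftFunctorAdd D n (-a)).inv.app K),
      ← cancel_epi ((shiftFunctorCompIsoId D a (-a) (by omega)).inv.app A)]
    exact h.trans (by simp)⟩
  ext₂' T hT h₁ h₃ := ⟨T.obj₂, fun n f => by
    obtain ⟨χ, hχ⟩ := Triangle.yoneda_exact₂ T hT f (h₁ n _)
    rw [hχ, h₃ n χ, comp_zero], ⟨Iso.refl _⟩⟩

instance (K : D) : (orth K).IsStableUnderRetracts where
  of_retract {X Y} r hY := fun n f => by
    have h := hY n (r.r ≫ f)
    rw [← Category.id_comp f, ← r.retract, Category.assoc, h, comp_zero]

variable [IsTriangulated D] [HasCoproducts.{v} D]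

theorem generates {E : D} (hD : CohDer.IsCompactlyGenerated D)
    (h : ∀ X : D, CohDer.IsCompactObject X →
      ObjectProperty.triangEnvelope (fun Y : D => Y = E) X) :
    CohDer.Generates (fun _ : Unit => E) := by
  intro K hK
  obtain ⟨ι, G, hGc, hG⟩ := hD
  refine hG K fun i n f => ?_
  exact (ObjectProperty.triangEnvelope_le_iff (Q := orth K) _).2
    (fun Y (hY : Y = E) => hY ▸ fun n f => hK () n f) _ (h _ (hGc i)) n f

variable [HasColimitsOfShape (Discrete ℕ) D]

theorem triangEnvelope_of_compact {E : D} (hE : CohDer.IsCompactObject E)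
    (hg : CohDer.Generates (fun _ : PUnit.{v + 1} => E)) {X : D} (hX : CohDer.IsCompactObject X) :
    ObjectProperty.triangEnvelope (fun Y : D => Y = E) X := by
  classical
  let F : PUnit.{v + 1} → D := fun _ => E
  obtain ⟨T, p, hp⟩ := Brown.exists_presentation (Brown.shifted F)
    (Brown.detects_shifted_of_generates F hg) (Brown.shifted_closed F)
    (Brown.small₂_of_compact _ fun _ => Coprod.isCompact_shift hE _) X
  obtain ⟨n, g₀, hg₀⟩ := Hocolim.exists_factor hp hX (𝟙 X)
  obtain ⟨s, E', g, h, hE', hgh⟩ := Finite.exists_factor_stage F (fun _ => hE) T.K T.f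
    (by
      obtain ⟨R, r, h⟩ := T.base
      exact ⟨R, fun k => (r k).1, fun k => (r k).2.down, h⟩)
    (fun n => by
      obtain ⟨R, r, y, z, h⟩ := T.step n
      exact ⟨R, fun k => (r k).1, fun k => (r k).2.down, y, z, h⟩) n X hX g₀
  have hle : Finite.env F s ≤ ObjectProperty.triangEnvelope (fun Y : D => Y = E) :=
    ObjectProperty.monotone_triangEnvelope fun Y ⟨_, _, e⟩ => e
  let ret : Retract X E' := ⟨g, h ≫ p n, by rw [← Category.assoc, hgh, hg₀]⟩
  exact (ObjectProperty.triangEnvelope (fun Y : D => Y = E)).prop_of_retract ret (hle _ hE')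

end Groth.Agent.CompGen.Classical
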